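import Mathlib.Algebra.MonoidAlgebra.Basic
import Mathlib.Algebra.CharP.Lemmas
import Mathlib.FieldTheory.IsAlgClosed.Basic
import Mathlib.GroupTheory.PGroup
import Mathlib.GroupTheory.Index
import Mathlib.GroupTheory.Complement
import Mathlib.LinearAlgebra.Dual.Lemmas
import Mathlib.LinearAlgebra.Eigenspace.Triangularizable
import Mathlib.LinearAlgebra.Dimension.Constructions

/-!
# Modules of `p`-groups in characteristic `p` inside a group algebra
-/

set_option autoImplicit false

namespace CfsgLib.DefectZero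

open MonoidAlgebra

variable {k : Type*} [Field k]

section fixed

variable {p : ℕ} [Fact p.Prime] [CharP k p]

/-- A nonzero subspace stable under a `p`-group contains a nonzero fixed vector. -/
theorem exists_fixed_ne_zero {P : Type*} [Group P] [Finite P] (hP : IsPGroup p P) {V : Type*}
    [AddCommGroup V] [Module k V] (ρ : P →* Module.End k V) (W : Submodule k V)
    (hW : ∀ q, ∀ z ∈ W, ρ q z ∈ W) {w : V} (hw : w ∈ W) (hw0 : w ≠ 0) :
    ∃ z ∈ W, z ≠ 0 ∧ ∀ q, ρ q z = z := by
  classical
  haveI : Fintype P := Fintype.ofFinite P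
  let κ : ZMod p →+* k := ZMod.castHom (dvd_refl p) k
  let θ : (P → ZMod p) →+ V :=
    AddMonoidHom.mk' (fun c => ∑ q, κ (c q) • ρ q w) fun c d => by
      simp [add_smul, Finset.sum_add_distrib]
  have hsub : ∀ z ∈ θ.range, z ∈ W := by
    rintro _ ⟨c, rfl⟩
    exact W.sum_mem fun q _ => W.smul_mem _ (hW q w hw)
  have hst : ∀ q, ∀ z ∈ θ.range, ρ q z ∈ θ.range := by
    rintro q _ ⟨c, rfl⟩
    refine ⟨fun r => c (q⁻¹ * r), ?_⟩
    simp only [θ, AddMonoidHom.mk'_apply, map_sum, map_smul]
    rw [← Equiv.sum_comp (Equiv.mulLeft q)]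
    refine Finset.sum_congr rfl fun r _ => ?_
    simp [map_mul]
  letI : MulAction P θ.range :=
    { smul := fun q z => ⟨ρ q z, hst q z z.2⟩
      one_smul := fun z => Subtype.ext (by show ρ 1 (z : V) = z; simp)
      mul_smul := fun a b z => Subtype.ext (by
        show ρ (a * b) (z : V) = ρ a (ρ b (z : V)); simp) }
  haveI : Finite θ.range := Set.finite_range θ |>.to_subtype
  have hwr : w ∈ θ.range := ⟨Pi.single 1 1, by
    simp only [θ, AddMonoidHom.mk'_apply]
    rw [Finset.sum_eq_single 1 (fun q _ hq => by simp [hq]) (by simp)]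
    simp⟩
  have hdvd : p ∣ Nat.card θ.range := by
    have h := AddSubgroup.card_range_dvd θ
    rw [Nat.card_fun, Nat.card_zmod] at h
    obtain ⟨i, -, hi⟩ := (Nat.dvd_prime_pow Fact.out).1 h
    rcases Nat.eq_zero_or_pos i with rfl | hpos
    · rw [pow_zero] at hi
      haveI : Nontrivial θ.range := ⟨⟨w, hwr⟩, 0, fun e => hw0 (congrArg Subtype.val e)⟩
      exact absurd hi (Finite.one_lt_card (α := θ.range)).ne'
    · rw [hi]; exact dvd_pow_self p hpos.ne'
  have h0 : (0 : θ.range) ∈ MulAction.fixedPoints P θ.range := fun q => Subtype.ext (by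
    show ρ q 0 = 0; simp)
  obtain ⟨b, hb, hne⟩ := hP.exists_fixed_point_of_prime_dvd_card_of_fixed_point θ.range hdvd h0
  exact ⟨b, hsub _ b.2, fun e => hne (Subtype.ext e.symm),
    fun q => congrArg Subtype.val (hb q)⟩

end fixed

section eigen

variable [IsAlgClosed k] {V : Type*} [AddCommGroup V] [Module k V] [FiniteDimensional k V]

/-- A commuting family of endomorphisms has a common eigenvector in a stable subspace. -/
theorem exists_common_eigen {ι : Type*} [Finite ι] (f : ι → Module.End k V)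
    (hc : ∀ i j z, f i (f j z) = f j (f i z)) (W : Submodule k V)
    (hW : ∀ i, ∀ z ∈ W, f i z ∈ W) (hW0 : W ≠ ⊥) :
    ∃ z ∈ W, z ≠ 0 ∧ ∀ i, ∃ μ : k, f i z = μ • z := by
  classical
  haveI : Fintype ι := Fintype.ofFinite ι
  suffices h : ∀ (s : Finset ι) (W : Submodule k V), (∀ i, ∀ z ∈ W, f i z ∈ W) → W ≠ ⊥ →
      ∃ z ∈ W, z ≠ 0 ∧ ∀ i ∈ s, ∃ μ : k, f i z = μ • z by
    obtain ⟨z, h1, h2, h3⟩ := h Finset.univ W hW hW0
    exact ⟨z, h1, h2, fun i => h3 i (Finset.mem_univ i)⟩
  intro s
  induction s using Finset.induction_on with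
  | empty =>
    intro W _ hW0
    obtain ⟨z, hz, hz0⟩ := Submodule.exists_mem_ne_zero_of_ne_bot hW0
    exact ⟨z, hz, hz0, by simp⟩
  | insert a s _ ih =>
    intro W hW hW0
    haveI : Nontrivial W := Submodule.nontrivial_iff_ne_bot.2 hW0
    obtain ⟨μ, hμ⟩ := Module.End.exists_eigenvalue ((f a).restrict (hW a))
    obtain ⟨w, hw⟩ := hμ.exists_hasEigenvector
    have hw1 : f a w = μ • (w : V) := congrArg Subtype.val hw.apply_eq_smul
    set W' := W ⊓ Module.End.eigenspace (f a) μ with hW'
    have hst : ∀ i, ∀ z ∈ W', f i z ∈ W' := by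
      rintro i z ⟨h1, h2⟩
      refine ⟨hW i z h1, ?_⟩
      rw [SetLike.mem_coe, Module.End.mem_eigenspace_iff] at h2 ⊢
      rw [hc a i z, h2, map_smul]
    have hne : W' ≠ ⊥ := by
      rw [Submodule.ne_bot_iff]
      exact ⟨w, ⟨w.2, Module.End.mem_eigenspace_iff.2 hw1⟩,
        fun e => hw.2 (Subtype.ext e)⟩
    obtain ⟨z, hz, hz0, hzs⟩ := ih W' hst hne
    refine ⟨z, hz.1, hz0, fun i hi => ?_⟩
    rcases Finset.mem_insert.1 hi with rfl | hi
    · exact ⟨μ, Module.End.mem_eigenspace_iff.1 hz.2⟩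
    · exact hzs i hi

end eigen

section algebra

variable {G : Type*} [Group G]

variable (k) in
/-- A group element in the group algebra. -/
noncomputable abbrev gd : G →* MonoidAlgebra k G := MonoidAlgebra.of k G

/-- Left multiplication. -/
noncomputable def lmul : MonoidAlgebra k G →* Module.End k (MonoidAlgebra k G) where
  toFun a := LinearMap.mulLeft k a
  map_one' := LinearMap.ext fun _ => one_mul _
  map_mul' a b := LinearMap.ext fun _ => mul_assoc a b _

@[simp] theorem lmul_apply (a m : MonoidAlgebra k G) : lmul a m = a * m := rfl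

theorem gd_ne_zero_mul {g : G} {m : MonoidAlgebra k G} (h : m ≠ 0) : gd k g * m ≠ 0 := fun e => h (by
  have e' := congrArg (gd k g⁻¹ * ·) e
  beta_reduce at e'
  rwa [← mul_assoc, ← map_mul, inv_mul_cancel, map_one, one_mul, mul_zero] at e')

variable (k) in
/-- The sum of the elements of a subgroup. -/
noncomputable def sumSub (U : Subgroup G) [Fintype U] : MonoidAlgebra k G :=
  ∑ u : U, gd k (u : G)

/-- The element is fixed by left multiplication with the subgroup. -/
def Fixes (U : Subgroup G) (m : MonoidAlgebra k G) : Prop := ∀ u ∈ U, gd k u * m = m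

theorem mul_sumSub {U : Subgroup G} [Fintype U] {u : G} (hu : u ∈ U) :
    gd k u * sumSub k U = sumSub k U := by
  rw [sumSub, Finset.mul_sum, ← Equiv.sum_comp (Equiv.mulLeft (⟨u, hu⟩ : U))
    (fun r : U => gd k (r : G))]
  exact Finset.sum_congr rfl fun r _ => by simp [map_mul]

theorem sumSub_mul {U : Subgroup G} [Fintype U] {u : G} (hu : u ∈ U) :
    sumSub k U * gd k u = sumSub k U := by
  rw [sumSub, Finset.sum_mul, ← Equiv.sum_comp (Equiv.mulRight (⟨u, hu⟩ : U))
    (fun r : U => gd k (r : G))]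
  exact Finset.sum_congr rfl fun r _ => by simp [map_mul]

theorem fixes_sumSub_mul (U : Subgroup G) [Fintype U] (m : MonoidAlgebra k G) :
    Fixes U (sumSub k U * m) := fun u hu => by rw [← mul_assoc, mul_sumSub hu]

theorem sumSub_mul_gd_mul {U : Subgroup G} [Fintype U] {u : G} (hu : u ∈ U)
    (m : MonoidAlgebra k G) : sumSub k U * (gd k u * m) = sumSub k U * m := by
  rw [← mul_assoc, sumSub_mul hu]

variable {p : ℕ} [Fact p.Prime] [CharP k p]

/-- A nonzero left translation invariant subspace has a fixed vector. -/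
theorem exists_fixes_ne_zero {U : Subgroup G} [Finite U] (hU : IsPGroup p U)
    (W : Submodule k (MonoidAlgebra k G)) (hW : ∀ u ∈ U, ∀ z ∈ W, gd k u * z ∈ W)
    {w : MonoidAlgebra k G} (hw : w ∈ W) (hw0 : w ≠ 0) : ∃ z ∈ W, z ≠ 0 ∧ Fixes U z := by
  obtain ⟨z, h1, h2, h3⟩ := exists_fixed_ne_zero hU
    (lmul.comp ((gd k).comp U.subtype)) W (fun q z hz => hW q q.2 z hz) hw hw0
  exact ⟨z, h1, h2, fun u hu => h3 ⟨u, hu⟩⟩

/-- The translates of an element are independent when their sum is nonzero. -/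
theorem linearIndependent_translates {P : Type*} [Group P] [Fintype P] (hP : IsPGroup p P)
    (f : P →* G) {m : MonoidAlgebra k G} (h : ∑ q, gd k (f q) * m ≠ 0) :
    LinearIndependent k fun q => gd k (f q) * m := by
  classical
  rw [Fintype.linearIndependent_iff]
  let L : (P → k) →ₗ[k] MonoidAlgebra k G :=
    Fintype.linearCombination k fun q => gd k (f q) * m
  have hL : ∀ c : P → k, L c = ∑ q, c q • (gd k (f q) * m) := fun c => rfl
  let ρ : P →* Module.End k (P → k) :=
    { toFun := fun a => LinearMap.funLeft k k fun r => a⁻¹ * r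
      map_one' := LinearMap.ext fun c => funext fun r => by simp [LinearMap.funLeft_apply]
      map_mul' := fun a b => LinearMap.ext fun c => funext fun r => by
        simp [LinearMap.funLeft_apply, mul_assoc] }
  have hst : ∀ a, ∀ c ∈ LinearMap.ker L, ρ a c ∈ LinearMap.ker L := by
    intro a c hc
    rw [LinearMap.mem_ker, hL] at hc ⊢
    rw [← Equiv.sum_comp (Equiv.mulLeft a)]
    have e := congrArg (gd k (f a) * ·) hc
    simp only [Finset.mul_sum, mul_zero, mul_smul_comm, ← mul_assoc, ← map_mul] at e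
    refine Eq.trans (Finset.sum_congr rfl fun r _ => ?_) e
    simp [ρ, LinearMap.funLeft_apply, map_mul]
  intro c hc
  by_contra hne
  have hc0 : c ≠ 0 := fun e => hne fun q => by rw [e]; rfl
  obtain ⟨z, hz, hz0, hfix⟩ := exists_fixed_ne_zero hP ρ _ hst
    (show c ∈ LinearMap.ker L by rw [LinearMap.mem_ker, hL]; exact hc) hc0
  have hconst : ∀ q, z q = z 1 := fun q => by
    have := congrFun (hfix q⁻¹) 1
    simpa [ρ, LinearMap.funLeft_apply] using this
  rw [LinearMap.mem_ker, hL] at hz
  simp only [hconst] at hz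
  rw [← Finset.smul_sum] at hz
  rcases smul_eq_zero.1 hz with h1 | h1
  · exact hz0 (funext fun q => by rw [hconst q, h1]; rfl)
  · exact h h1

/-- If a nontrivial element of a `p`-subgroup fixes an element, the subgroup sum kills it. -/
theorem sumSub_mul_eq_zero {U : Subgroup G} [Fintype U] (hU : IsPGroup p U) {w : G} (hw : w ∈ U)
    (hw1 : w ≠ 1) {m : MonoidAlgebra k G} (hm : gd k w * m = m) : sumSub k U * m = 0 := by
  classical
  set C : Subgroup U := Subgroup.zpowers ⟨w, hw⟩
  have hfix : ∀ c ∈ C, gd k ((c : U) : G) * m = m := by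
    intro c hc
    obtain ⟨i, rfl⟩ := (mem_powers_iff_mem_zpowers.2 hc)
    induction i with
    | zero =>
      show gd k (((⟨w, hw⟩ : U) ^ 0 : U) : G) * m = m
      rw [pow_zero, Subgroup.coe_one, map_one, one_mul]
    | succ i ih =>
      show gd k ((((⟨w, hw⟩ : U) ^ (i + 1) : U)) : G) * m = m
      rw [pow_succ, Subgroup.coe_mul, map_mul, mul_assoc, hm]
      exact ih (Subgroup.npow_mem_zpowers _ _)
  rw [sumSub, Finset.sum_mul, ← Finset.sum_fiberwise Finset.univ
    (fun u : U => (QuotientGroup.mk u : U ⧸ C))]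
  refine Finset.sum_eq_zero fun q _ => ?_
  induction q using QuotientGroup.induction_on with | _ r => ?_
  rw [Finset.sum_congr rfl fun u hu => ?_, Finset.sum_const]
  rotate_left
  · exact gd k ((r : U) : G) * m
  · obtain ⟨c, hc, rfl⟩ : ∃ c ∈ C, u = r * c :=
      ⟨r⁻¹ * u, QuotientGroup.eq.1 (Finset.mem_filter.1 hu).2.symm, by group⟩
    rw [Subgroup.coe_mul, map_mul, mul_assoc, hfix c hc]
  have hcard : (Finset.univ.filter fun u : U => (QuotientGroup.mk u : U ⧸ C) = r).card =
      Nat.card C := by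
    rw [← Fintype.card_subtype, ← Nat.card_eq_fintype_card]
    refine Nat.card_congr ((Equiv.mulLeft r⁻¹).subtypeEquiv fun u => ?_)
    rw [eq_comm, QuotientGroup.eq]
    rfl
  obtain ⟨n, hn⟩ := IsPGroup.iff_card.1 (hU.to_subgroup C)
  rcases n with _ | n
  · rw [pow_zero, Subgroup.card_eq_one, Subgroup.zpowers_eq_bot] at hn
    exact absurd (congrArg Subtype.val hn) hw1
  · rw [hcard, hn, ← Nat.cast_smul_eq_nsmul k, Nat.cast_pow, CharP.cast_eq_zero,
      zero_pow (Nat.succ_ne_zero n), zero_smul]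

/-- An element fixed by a subgroup and by a sum of all conjugates is a subgroup sum. -/
theorem eq_sumSub_mul [Fintype G] {e y : MonoidAlgebra k G}
    (he : e = ∑ x : G, gd k x * y * gd k x⁻¹) (U : Subgroup G) [Fintype U]
    {m : MonoidAlgebra k G} (hem : e * m = m) (hm : Fixes U m) :
    ∃ Y : MonoidAlgebra k G, m = sumSub k U * (Y * m) := by
  classical
  obtain ⟨R, hR, -⟩ := U.exists_isComplement_right 1
  haveI : Fintype R := Fintype.ofFinite _
  refine ⟨∑ r : R, gd k (r : G) * y * gd k (r : G)⁻¹, ?_⟩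
  conv_lhs => rw [← hem, he, Finset.sum_mul]
  let E : U × R ≃ G := Equiv.ofBijective (fun x : U × R => (x.1 : G) * (x.2 : G)) hR
  rw [sumSub, Finset.sum_mul, ← Equiv.sum_comp E, Fintype.sum_prod_type]
  refine Finset.sum_congr rfl fun u _ => ?_
  rw [Finset.sum_mul, Finset.mul_sum]
  refine Finset.sum_congr rfl fun r _ => ?_
  simp only [show E (u, r) = (u : G) * (r : G) from rfl, mul_inv_rev, map_mul, mul_assoc]
  rw [hm _ (inv_mem u.2)]

omit [Fact p.Prime] [CharP k p] in
/-- A subspace whose fixed vectors are a line is no bigger than the regular module. -/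
theorem finrank_le_card {U : Subgroup G} [Fintype U] [Finite G]
    (W : Submodule k (MonoidAlgebra k G)) (v : MonoidAlgebra k G) (hv : v ≠ 0)
    (hfix : ∀ z ∈ W, z ≠ 0 → ∃ z', z' ∈ W ⊓ Submodule.span k (Set.range fun u : U => gd k (u : G) * z)
      ∧ z' ≠ 0 ∧ ∃ c : k, z' = c • v) :
    Module.finrank k W ≤ Fintype.card U := by
  classical
  obtain ⟨ψ, hψ⟩ : ∃ ψ : Module.Dual k (MonoidAlgebra k G), ψ v ≠ 0 := by
    by_contra h
    push Not at h
    exact hv ((Module.forall_dual_apply_eq_zero_iff k v).1 h)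
  let Φ : W →ₗ[k] (U → k) :=
    LinearMap.pi fun u => ψ.comp ((lmul (gd k (u : G))).comp W.subtype)
  have hΦ : ∀ (z : W) (u : U), Φ z u = ψ (gd k (u : G) * (z : MonoidAlgebra k G)) := fun z u => rfl
  have hinj : Function.Injective Φ := by
    rw [← LinearMap.ker_eq_bot, LinearMap.ker_eq_bot']
    intro z hz
    by_contra hz0
    obtain ⟨z', ⟨-, hz'⟩, hz'0, c, rfl⟩ := hfix z z.2 fun e => hz0 (Subtype.ext e)
    have hle : Submodule.span k (Set.range fun u : U => gd k (u : G) * (z : MonoidAlgebra k G)) ≤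
        LinearMap.ker ψ := by
      rw [Submodule.span_le]
      rintro _ ⟨u, rfl⟩
      rw [SetLike.mem_coe, LinearMap.mem_ker, ← hΦ, hz]
      rfl
    have := LinearMap.mem_ker.1 (hle hz')
    rw [map_smul, smul_eq_zero] at this
    rcases this with h | h
    · exact hz'0 (by rw [h, zero_smul])
    · exact hψ h
  simpa using LinearMap.finrank_le_finrank_of_injective hinj

end algebra

end CfsgLib.DefectZero
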