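import Cfsg.Agent.StDefZero.Frame
import Cfsg.Agent.Pronormal.EvenLinear
import Mathlib.LinearAlgebra.Matrix.SchurComplement
import Mathlib.LinearAlgebra.Matrix.CharP

/-!
# The combinatorial frame of the special linear group
-/

set_option autoImplicit false
set_option linter.unusedSectionVars false
set_option linter.style.haveILetI false

namespace CfsgLib.DefectZero.SpecialLinear

open Matrix CfsgLib.Pronormal
open scoped MatrixGroups

variable {n : ℕ} {F : Type*} [Field F]

/-- The adjacent pairs of indices. -/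
abbrev Simple (n : ℕ) : Type := {q : Fin n × Fin n // (q.1 : ℕ) + 1 = q.2}

theorem simple_lt (q : Simple n) : q.1.1 < q.1.2 := Fin.lt_def.2 (by have := q.2; omega)

theorem simple_ne (q : Simple n) : q.1.1 ≠ q.1.2 := (simple_lt q).ne

/-- The coordinates adapted to a simple pair. -/
noncomputable def split2 (q : Simple n) :
    Fin 2 ⊕ {k : Fin n // k ≠ q.1.1 ∧ k ≠ q.1.2} ≃ Fin n :=
  Equiv.ofBijective (Sum.elim ![q.1.1, q.1.2] Subtype.val) (by
    constructor
    · rintro (i | ⟨k, hk⟩) (j | ⟨l, hl⟩) h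
      · fin_cases i <;> fin_cases j <;> first | rfl | exact absurd h (simple_ne q) |
          exact absurd h.symm (simple_ne q)
      · fin_cases i <;> simp at h <;> simp [h] at hl
      · fin_cases j <;> simp at h <;> simp [h] at hk
      · simp at h; subst h; rfl
    · intro k
      by_cases h1 : k = q.1.1
      · exact ⟨Sum.inl 0, h1.symm⟩
      by_cases h2 : k = q.1.2
      · exact ⟨Sum.inl 1, h2.symm⟩
      exact ⟨Sum.inr ⟨k, h1, h2⟩, rfl⟩)

@[simp] theorem split2_zero (q : Simple n) : split2 q (Sum.inl 0) = q.1.1 := rfl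

@[simp] theorem split2_one (q : Simple n) : split2 q (Sum.inl 1) = q.1.2 := rfl

@[simp] theorem split2_inr (q : Simple n) (k) : split2 q (Sum.inr k) = k.1 := rfl

theorem sl_ext {m : ℕ} {A B : SpecialLinearGroup (Fin m) F}
    (h : (A : Matrix (Fin m) (Fin m) F) = (B : Matrix (Fin m) (Fin m) F)) : A = B := Subtype.ext h

/-- The embedding of `SL 2` at a simple pair. -/
noncomputable def phi (q : Simple n) :
    SpecialLinearGroup (Fin 2) F →* SpecialLinearGroup (Fin n) F where
  toFun A := ⟨Matrix.reindex (split2 q) (split2 q) (fromBlocks (A : Matrix (Fin 2) (Fin 2) F) 0 0 1), by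
    rw [det_reindex_self, det_fromBlocks_zero₂₁, A.2, det_one, one_mul]⟩
  map_one' := Subtype.ext (by simp)
  map_mul' A B := sl_ext (by
    show Matrix.reindex _ _ (fromBlocks ((A * B : SpecialLinearGroup (Fin 2) F) :
        Matrix (Fin 2) (Fin 2) F) 0 0 1) =
      Matrix.reindex _ _ (fromBlocks (A : Matrix (Fin 2) (Fin 2) F) 0 0 1) *
        Matrix.reindex _ _ (fromBlocks (B : Matrix (Fin 2) (Fin 2) F) 0 0 1)
    simp [fromBlocks_multiply, submatrix_mul_equiv])

theorem phi_apply (q : Simple n) (A : SpecialLinearGroup (Fin 2) F) (u v) :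
    (phi q A : Matrix (Fin n) (Fin n) F) (split2 q u) (split2 q v) =
      fromBlocks (A : Matrix (Fin 2) (Fin 2) F) 0 0 1 u v := by
  show Matrix.reindex (split2 q) (split2 q) _ (split2 q u) (split2 q v) = _
  simp

/-- Upper unipotent element of `SL 2`. -/
def u2 (t : F) : SpecialLinearGroup (Fin 2) F := ⟨!![1, t; 0, 1], by simp [det_fin_two]⟩

/-- Antidiagonal element of `SL 2`. -/
def w2 : SpecialLinearGroup (Fin 2) F := ⟨!![0, 1; -1, 0], by simp [det_fin_two]⟩

/-- Diagonal element of `SL 2`. -/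
noncomputable def d2 (t : F) : SpecialLinearGroup (Fin 2) F :=
  open Classical in
  if ht : t = 0 then 1 else ⟨!![t, 0; 0, t⁻¹], by simp [det_fin_two, ht]⟩

theorem d2_coe {t : F} (ht : t ≠ 0) :
    (d2 t : Matrix (Fin 2) (Fin 2) F) = !![t, 0; 0, t⁻¹] := by
  have h : d2 t = (⟨!![t, 0; 0, t⁻¹], by simp [det_fin_two, ht]⟩ : SpecialLinearGroup (Fin 2) F) := by
    unfold d2
    exact dif_neg ht
  rw [h]

/-- The root group. -/
noncomputable def xr (q : Simple n) (t : F) : SpecialLinearGroup (Fin n) F := phi q (u2 t)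

/-- The reflection. -/
noncomputable def sr (q : Simple n) : SpecialLinearGroup (Fin n) F := phi q w2

/-- The coroot. -/
noncomputable def hr (q : Simple n) (t : F) : SpecialLinearGroup (Fin n) F := phi q (d2 t)

theorem xr_coe (q : Simple n) (t : F) :
    (xr q t : Matrix (Fin n) (Fin n) F) = transvection q.1.1 q.1.2 t := by
  ext k l
  obtain ⟨u, rfl⟩ := (split2 q).surjective k
  obtain ⟨v, rfl⟩ := (split2 q).surjective l
  rw [xr, phi_apply]
  have := simple_ne q
  rcases u with i | ⟨k, hk⟩ <;> rcases v with j | ⟨l, hl⟩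
  · fin_cases i <;> fin_cases j <;>
      simp [transvection, u2, Matrix.one_apply, Matrix.single_apply, this, this.symm]
  · fin_cases i <;> simp [transvection, Matrix.one_apply, Matrix.single_apply, hl.1.symm, hl.2.symm]
  · fin_cases j <;> simp [transvection, Matrix.one_apply, Matrix.single_apply, hk.1, hk.2, hk.1.symm]
  · simp [transvection, Matrix.one_apply, Matrix.single_apply, hk.1.symm]

theorem hr_coe (q : Simple n) (t : Fˣ) :
    (SpecialLinearGroup.toGL (hr q (t : F)) : GL (Fin n) F) =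
      diagGL (Function.update (Function.update 1 q.1.1 t) q.1.2 t⁻¹) := by
  refine Units.ext (Matrix.ext fun k l => ?_)
  obtain ⟨u, rfl⟩ := (split2 q).surjective k
  obtain ⟨v, rfl⟩ := (split2 q).surjective l
  show (phi q (d2 (t : F)) : Matrix (Fin n) (Fin n) F) _ _ = _
  rw [phi_apply, diagGL_val, d2_coe t.ne_zero]
  have := simple_ne q
  rcases u with i | ⟨k, hk⟩ <;> rcases v with j | ⟨l, hl⟩
  · fin_cases i <;> fin_cases j <;> simp [diagonal_apply, this, this.symm]
  · fin_cases i <;> simp [diagonal_apply, hl.1.symm, hl.2.symm]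
  · fin_cases j <;> simp [diagonal_apply, hk.1, hk.2]
  · simp [diagonal_apply, Matrix.one_apply, hk.1, hk.2, Function.update_of_ne]

theorem phi_anti (q : Simple n) (c : Fˣ) (A : SpecialLinearGroup (Fin 2) F)
    (hA : (A : Matrix (Fin 2) (Fin 2) F) = !![0, (c : F); -((c : F))⁻¹, 0]) :
    SpecialLinearGroup.toGL (phi q A) =
      monoGL (Function.update (Function.update 1 q.1.1 c) q.1.2 (-c⁻¹))
        (Equiv.swap q.1.1 q.1.2) := by
  refine Units.ext (Matrix.ext fun k l => ?_)
  obtain ⟨u, rfl⟩ := (split2 q).surjective k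
  obtain ⟨v, rfl⟩ := (split2 q).surjective l
  show (phi q A : Matrix (Fin n) (Fin n) F) _ _ = _
  rw [phi_apply, monoGL_apply, hA]
  have := simple_ne q
  rcases u with i | ⟨k, hk⟩ <;> rcases v with j | ⟨l, hl⟩
  · fin_cases i <;> fin_cases j <;> simp [this, this.symm]
  · fin_cases i <;> simp [Equiv.swap_apply_of_ne_of_ne hl.1 hl.2, hl.1, hl.2]
  · fin_cases j <;> simp [hk.1.symm, hk.2.symm]
  · simp [Equiv.swap_apply_of_ne_of_ne hl.1 hl.2, Matrix.one_apply, hk.1, hk.2, eq_comm]

theorem sr_coe (q : Simple n) :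
    SpecialLinearGroup.toGL (sr (F := F) q) =
      monoGL (Function.update (Function.update 1 q.1.1 1) q.1.2 (-1))
        (Equiv.swap q.1.1 q.1.2) := by
  have := phi_anti (F := F) q 1 w2 (by simp [w2])
  rwa [inv_one] at this

theorem sr_inv_coe (q : Simple n) :
    SpecialLinearGroup.toGL ((sr (F := F) q)⁻¹) =
      monoGL (Function.update (Function.update 1 q.1.1 (-1)) q.1.2 1)
        (Equiv.swap q.1.1 q.1.2) := by
  have := phi_anti (F := F) q (-1) w2⁻¹
    (by
    show (w2 (F := F) : Matrix (Fin 2) (Fin 2) F).adjugate = _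
    simp [w2, adjugate_fin_two])
  rwa [map_inv (phi q), inv_neg, inv_one, neg_neg] at this

theorem monoGL_mul (t t' : Fin n → Fˣ) (π π' : Equiv.Perm (Fin n)) :
    monoGL t π * monoGL t' π' = monoGL (t * fun i => t' (π.symm i)) (π * π') := by
  rw [monoGL, monoGL, monoGL, mul_assoc, ← mul_assoc (CfsgLib.GLn.permGL F π), permGL_conj_diag,
    mul_assoc, ← map_mul (CfsgLib.GLn.permGL F), ← mul_assoc, ← map_mul]

theorem eq_perm_of_monoGL {t : Fin n → Fˣ} {π : Equiv.Perm (Fin n)} {i j : Fin n}
    (h : ((monoGL t π : GL (Fin n) F) : Matrix (Fin n) (Fin n) F) i j ≠ 0) : π j = i := by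
  by_contra hne
  rw [monoGL_apply, if_neg hne] at h
  exact h rfl

theorem monoGL_apply_ne_zero (t : Fin n → Fˣ) (π : Equiv.Perm (Fin n)) (j : Fin n) :
    ((monoGL t π : GL (Fin n) F) : Matrix (Fin n) (Fin n) F) (π j) j ≠ 0 := by
  rw [monoGL_apply, if_pos rfl]
  exact (t _).ne_zero

/-- A monomial conjugate of a unitriangular matrix with support in increasing pairs. -/
theorem conj_mem_unitri {g : GL (Fin n) F} (t : Fin n → Fˣ) (π : Equiv.Perm (Fin n))
    (hd : ∀ i, (g : Matrix (Fin n) (Fin n) F) i i = 1)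
    (ho : ∀ i j, i ≠ j → (g : Matrix (Fin n) (Fin n) F) i j ≠ 0 → π i < π j) :
    monoGL t π * g * (monoGL t π)⁻¹ ∈ unitri n F := by
  refine ⟨fun k l hlk => ?_, fun k => ?_⟩
  · obtain ⟨i, rfl⟩ := π.surjective k
    obtain ⟨j, rfl⟩ := π.surjective l
    change π j < π i at hlk
    rw [monoGL_conj_apply]
    by_cases hg : (g : Matrix (Fin n) (Fin n) F) i j = 0
    · rw [hg, mul_zero, zero_mul]
    · have hij : i ≠ j := fun e => absurd hlk (by rw [e]; exact lt_irrefl _)
      exact absurd (ho i j hij hg) hlk.not_gt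
  · obtain ⟨i, rfl⟩ := π.surjective k
    rw [monoGL_conj_apply, hd, mul_one, Units.mul_inv]

theorem adjacent_mul {u v : GL (Fin n) F} (hu : u ∈ unitri n F) (hv : v ∈ unitri n F)
    (q : Simple n) :
    ((u * v : GL (Fin n) F) : Matrix (Fin n) (Fin n) F) q.1.1 q.1.2 =
      (u : Matrix (Fin n) (Fin n) F) q.1.1 q.1.2 + (v : Matrix (Fin n) (Fin n) F) q.1.1 q.1.2 := by
  rw [Units.val_mul, Matrix.mul_apply, Finset.sum_eq_add q.1.1 q.1.2 (simple_ne q)]
  · rw [hu.2, hv.2, one_mul, mul_one, add_comm]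
  · intro k _ hk
    rcases lt_or_gt_of_ne hk.1 with h | h
    · rw [upper_apply hu.1 h, zero_mul]
    · have h' : q.1.2 < k := lt_of_le_of_ne
        (Fin.le_def.2 (by have := q.2; have := Fin.lt_def.1 h; omega)) hk.2.symm
      rw [upper_apply hv.1 h', mul_zero]
  · simp
  · simp

variable (F)

/-- The unitriangular subgroup. -/
def upperU (n : ℕ) : Subgroup (SpecialLinearGroup (Fin n) F) :=
  (unitri n F).comap SpecialLinearGroup.toGL

/-- The diagonal subgroup. -/
noncomputable def torus (n : ℕ) : Subgroup (SpecialLinearGroup (Fin n) F) :=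
  ((diagGL (n := n) (F := F)).range).comap SpecialLinearGroup.toGL

/-- The monomial elements. -/
def monomial (n : ℕ) : Set (SpecialLinearGroup (Fin n) F) :=
  {g | ∃ (t : Fin n → Fˣ) (π : Equiv.Perm (Fin n)), SpecialLinearGroup.toGL g = monoGL t π}

/-- The unitriangular elements vanishing at a simple pair. -/
def upperUi {n : ℕ} (q : Simple n) : Subgroup (SpecialLinearGroup (Fin n) F) where
  carrier := {g | g ∈ upperU F n ∧ (g : Matrix (Fin n) (Fin n) F) q.1.1 q.1.2 = 0}
  one_mem' := ⟨one_mem _, by simp [simple_ne q]⟩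
  mul_mem' {a b} ha hb := ⟨mul_mem ha.1 hb.1, by
    have h := adjacent_mul (Subgroup.mem_comap.1 ha.1) (Subgroup.mem_comap.1 hb.1) q
    rw [← map_mul] at h
    exact h.trans (by
      show (a : Matrix (Fin n) (Fin n) F) q.1.1 q.1.2 + (b : Matrix (Fin n) (Fin n) F) q.1.1 q.1.2 = 0
      rw [ha.2, hb.2, add_zero])⟩
  inv_mem' {a} ha := ⟨inv_mem ha.1, by
    have h := adjacent_mul (Subgroup.mem_comap.1 ha.1) (Subgroup.mem_comap.1 (inv_mem ha.1)) q
    rw [← map_mul, mul_inv_cancel, map_one] at h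
    change (1 : Matrix (Fin n) (Fin n) F) q.1.1 q.1.2 =
      (a : Matrix (Fin n) (Fin n) F) q.1.1 q.1.2 +
        ((a⁻¹ : SpecialLinearGroup (Fin n) F) : Matrix (Fin n) (Fin n) F) q.1.1 q.1.2 at h
    rw [Matrix.one_apply_ne (simple_ne q), ha.2, zero_add] at h
    exact h.symm⟩

variable {F}

theorem xr_mem (q : Simple n) (t : F) : xr q t ∈ upperU F n := by
  refine ⟨fun i j hji => ?_, fun i => ?_⟩
  · change j < i at hji
    show (xr q t : Matrix (Fin n) (Fin n) F) i j = 0
    rw [xr_coe, transvection, Matrix.add_apply, Matrix.one_apply_ne hji.ne', zero_add,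
      Matrix.single_apply, if_neg]
    rintro ⟨rfl, rfl⟩
    exact absurd hji (simple_lt q).not_gt
  · show (xr q t : Matrix (Fin n) (Fin n) F) i i = 1
    rw [xr_coe, transvection, Matrix.add_apply, Matrix.one_apply_eq, Matrix.single_apply,
      if_neg fun h => simple_ne q (h.1.trans h.2.symm), add_zero]

theorem xr_apply (q : Simple n) (t : F) :
    (xr q t : Matrix (Fin n) (Fin n) F) q.1.1 q.1.2 = t := by
  rw [xr_coe, transvection, Matrix.add_apply, Matrix.one_apply_ne (simple_ne q), zero_add,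
    Matrix.single_apply_same]

theorem xr_conj_mem (q : Simple n) (a : F) {t : Fin n → Fˣ} {π : Equiv.Perm (Fin n)}
    {g : SpecialLinearGroup (Fin n) F} (hg : SpecialLinearGroup.toGL g = monoGL t π)
    (hπ : π q.1.1 < π q.1.2) : g * xr q a * g⁻¹ ∈ upperU F n := by
  show SpecialLinearGroup.toGL (g * xr q a * g⁻¹) ∈ unitri n F
  rw [map_mul, map_mul, map_inv, hg]
  refine conj_mem_unitri t π (xr_mem q a).2 fun i j hij h => ?_
  change (xr q a : Matrix (Fin n) (Fin n) F) i j ≠ 0 at h
  rw [xr_coe, transvection, Matrix.add_apply, Matrix.one_apply_ne hij, zero_add,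
    Matrix.single_apply] at h
  by_cases he : q.1.1 = i ∧ q.1.2 = j
  · rw [← he.1, ← he.2]; exact hπ
  · rw [if_neg he] at h; exact absurd rfl h

open Classical in
/-- The number of pairs kept in order by a monomial element. -/
noncomputable def ascents (g : SpecialLinearGroup (Fin n) F) : ℕ :=
  (Finset.univ.filter fun p : Fin n × Fin n => p.1 < p.2 ∧ ∃ k l, k < l ∧
    (g : Matrix (Fin n) (Fin n) F) k p.1 ≠ 0 ∧ (g : Matrix (Fin n) (Fin n) F) l p.2 ≠ 0).card

theorem ascents_eq {g : SpecialLinearGroup (Fin n) F} {t : Fin n → Fˣ} {π : Equiv.Perm (Fin n)}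
    (hg : SpecialLinearGroup.toGL g = monoGL t π) :
    ascents g = (Finset.univ.filter fun p : Fin n × Fin n => p.1 < p.2 ∧ π p.1 < π p.2).card := by
  classical
  unfold ascents
  congr 1
  refine Finset.filter_congr fun p _ => and_congr_right fun _ => ?_
  have hg' : (g : Matrix (Fin n) (Fin n) F) = ((monoGL t π : GL (Fin n) F) : Matrix (Fin n) (Fin n) F) := by
    rw [← hg]; rfl
  rw [hg']
  constructor
  · rintro ⟨k, l, hkl, hk, hl⟩
    rw [eq_perm_of_monoGL hk, eq_perm_of_monoGL hl]
    exact hkl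
  · exact fun h => ⟨_, _, h, monoGL_apply_ne_zero t π _, monoGL_apply_ne_zero t π _⟩

theorem swap_lt {q : Simple n} {i j : Fin n} (hij : i < j)
    (hne : ¬ (i = q.1.1 ∧ j = q.1.2)) :
    Equiv.swap q.1.1 q.1.2 i < Equiv.swap q.1.1 q.1.2 j := by
  have hq := q.2
  have h1 : (i : ℕ) < j := Fin.lt_def.1 hij
  rw [Fin.ext_iff, Fin.ext_iff] at hne
  simp only [Equiv.swap_apply_def, Fin.ext_iff]
  split_ifs <;> rw [Fin.lt_def] <;> omega

/-- The frame of the special linear group. -/
theorem exists_frame [NeZero n] :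
    ∃ Fr : CfsgLib.DefectZero.Frame (SpecialLinearGroup (Fin n) F) F (Simple n),
      Fr.U = upperU F n := by
  classical
  have h0 : ∃ (t : Fin n → Fˣ) (g : SpecialLinearGroup (Fin n) F),
      SpecialLinearGroup.toGL g = monoGL t Fin.revPerm := by
    set d := GeneralLinearGroup.det (monoGL (1 : Fin n → Fˣ) Fin.revPerm : GL (Fin n) F)
    refine ⟨Function.update 1 0 d⁻¹,
      ⟨(monoGL (Function.update 1 0 d⁻¹) Fin.revPerm : GL (Fin n) F), ?_⟩, Units.ext rfl⟩
    have e : monoGL (Function.update (1 : Fin n → Fˣ) 0 d⁻¹) Fin.revPerm =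
        diagGL (Function.update (1 : Fin n → Fˣ) 0 d⁻¹) *
          monoGL (1 : Fin n → Fˣ) Fin.revPerm := by
      rw [diag_monoGL, mul_one]
    rw [e, Units.val_mul, det_mul, diagGL_val, det_diagonal]
    rw [show ((monoGL (1 : Fin n → Fˣ) Fin.revPerm : GL (Fin n) F) : Matrix (Fin n) (Fin n) F).det
      = (d : F) from rfl, ← Units.coe_prod, ← Units.val_mul, Finset.prod_update_of_mem
      (Finset.mem_univ _)]
    simp
  obtain ⟨t0, g0, hg0⟩ := h0
  have hinj := SpecialLinearGroup.toGL_injective (n := Fin n) (R := F)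
  refine ⟨{
    U := upperU F n
    H := torus F n
    N := monomial F n
    n0 := g0
    len := ascents
    Ui := fun q => upperUi F q
    s := sr
    x := xr
    h := hr
    comm := ?_
    norm := ?_
    bruhat := ?_
    descend := ?_
    le := fun q a ha => ha.1
    x_mem := xr_mem
    x_add := ?_
    x_inj := ?_
    x_norm := ?_
    s_norm := ?_
    split := ?_
    turn := ?_
    h_mem := ?_
    h_one := ?_
    h_gen := ?_
    nh := ?_
    nn := ?_
    opp := ?_ }, rfl⟩
  · rintro a ⟨s, hs⟩ b ⟨r, hr'⟩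
    refine hinj ?_
    rw [map_mul, map_mul, ← hs, ← hr', ← map_mul, ← map_mul, mul_comm]
  · rintro a ⟨s, hs⟩ u hu
    show SpecialLinearGroup.toGL (a * u * a⁻¹) ∈ unitri n F
    rw [map_mul, map_mul, map_inv, ← hs]
    exact diag_conj_mem hu s
  · intro g
    obtain ⟨t, π, a, ha, u, hu, hg⟩ := exists_unitri_bruhat (SpecialLinearGroup.toGL g)
    set a' : SpecialLinearGroup (Fin n) F := ⟨_, det_unitri ha⟩ with ha'
    set u' : SpecialLinearGroup (Fin n) F := ⟨_, det_unitri hu⟩ with hu'
    have hta : SpecialLinearGroup.toGL a' = a := Units.ext rfl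
    have htu : SpecialLinearGroup.toGL u' = u := Units.ext rfl
    refine ⟨a', show SpecialLinearGroup.toGL a' ∈ unitri n F from hta ▸ ha, a'⁻¹ * g * u'⁻¹,
      ⟨t, π, ?_⟩, u', show SpecialLinearGroup.toGL u' ∈ unitri n F from htu ▸ hu, by group⟩
    rw [map_mul, map_mul, map_inv, map_inv, hta, htu, hg]
    group
  · rintro g ⟨t, π, hg⟩
    by_cases hasc : ∃ q : Simple n, π q.1.1 < π q.1.2
    · obtain ⟨q, hq⟩ := hasc
      refine Or.inr ⟨q, ⟨_, _, by rw [map_mul, hg, sr_coe, monoGL_mul]⟩, ?_,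
        fun a => xr_conj_mem q a hg hq⟩
      rw [ascents_eq hg, ascents_eq (show SpecialLinearGroup.toGL (g * sr q) = _ from by
        rw [map_mul, hg, sr_coe, monoGL_mul])]
      set σ := Equiv.swap q.1.1 q.1.2 with hσ
      have hmem : (q.1.1, q.1.2) ∈
          Finset.univ.filter (fun p : Fin n × Fin n => p.1 < p.2 ∧ π p.1 < π p.2) :=
        Finset.mem_filter.2 ⟨Finset.mem_univ _, simple_lt q, hq⟩
      refine lt_of_le_of_lt (Finset.card_le_card_of_injOn (fun p => (σ p.1, σ p.2)) ?_ ?_)
        (Finset.card_erase_lt_of_mem hmem)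
      · rintro ⟨i, j⟩ hp
        have hp : i < j ∧ π (σ i) < π (σ j) := (Finset.mem_filter.1 hp).2
        have hne : ¬ (i = q.1.1 ∧ j = q.1.2) := by
          rintro ⟨rfl, rfl⟩
          rw [hσ, Equiv.swap_apply_left, Equiv.swap_apply_right] at hp
          exact absurd hp.2 hq.not_gt
        have hlt := swap_lt hp.1 hne
        simp only [Finset.mem_coe, Finset.mem_erase, ne_eq, Finset.mem_filter, Finset.mem_univ,
          true_and, Prod.mk.injEq]
        refine ⟨fun h => ?_, hlt, hp.2⟩
        have hi : i = q.1.2 := σ.injective (by rw [h.1, hσ, Equiv.swap_apply_right])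
        have hj : j = q.1.1 := σ.injective (by rw [h.2, hσ, Equiv.swap_apply_left])
        exact absurd (hi ▸ hj ▸ hp.1) (simple_lt q).not_gt
      · rintro ⟨i, j⟩ _ ⟨i', j'⟩ _ h
        simp only [Prod.mk.injEq] at h
        exact Prod.ext (σ.injective h.1) (σ.injective h.2)
    · left
      push Not at hasc
      have hπ : π = Fin.revPerm := by
        have h1 : Fin.revPerm * π = 1 := perm_eq_one_of_adjacent fun i j hij => by
          simp only [Equiv.Perm.mul_apply, Fin.revPerm_apply, Fin.rev_lt_rev]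
          refine lt_of_le_of_ne (hasc ⟨(i, j), hij⟩) fun e => ?_
          have := Fin.ext_iff.1 (π.injective e)
          omega
        ext i
        have h2 : Fin.rev (π i) = i := Equiv.ext_iff.1 h1 i
        rw [Fin.revPerm_apply]
        conv_rhs => rw [← h2, Fin.rev_rev]
      subst hπ
      refine ⟨g0⁻¹ * g, ?_, (mul_inv_cancel_left _ _).symm⟩
      refine ⟨fun i => (t0 (Fin.revPerm i))⁻¹ * t (Fin.revPerm i), ?_⟩
      rw [map_mul, map_inv, hg0, hg, eq_inv_mul_iff_mul_eq, monoGL_diag]
      congr 1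
      funext i
      simp [Fin.rev_rev]
  · intro q a b
    rw [xr, xr, xr, ← map_mul]
    congr 1
    refine sl_ext ?_
    show !![1, a + b; 0, 1] = !![1, a; 0, 1] * !![1, b; 0, 1]
    simp [Matrix.mul_fin_two, add_comm]
  · intro q t ht
    rw [← xr_apply q t]
    exact ht.2
  · intro q t w hw
    refine ⟨mul_mem (mul_mem (inv_mem (xr_mem q t)) hw.1) (xr_mem q t), ?_⟩
    have h1 := adjacent_mul (Subgroup.mem_comap.1 (mul_mem (inv_mem (xr_mem q t)) hw.1))
      (Subgroup.mem_comap.1 (xr_mem q t)) q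
    have h2 := adjacent_mul (Subgroup.mem_comap.1 (inv_mem (xr_mem q t)))
      (Subgroup.mem_comap.1 hw.1) q
    have h3 := adjacent_mul (Subgroup.mem_comap.1 (inv_mem (xr_mem q t)))
      (Subgroup.mem_comap.1 (xr_mem q t)) q
    simp only [← map_mul, inv_mul_cancel, map_one] at h1 h2 h3
    simp only [SpecialLinearGroup.coe_GL_coe_matrix, Units.val_one] at h1 h2 h3
    rw [Matrix.one_apply_ne (simple_ne q), xr_apply] at h3
    rw [h1, h2, hw.2, add_zero, xr_apply, ← h3]
  · intro q w hw
    have hg := sr_inv_coe (F := F) q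
    set t := Function.update (Function.update (1 : Fin n → Fˣ) q.1.1 (-1)) q.1.2 1
    have key : SpecialLinearGroup.toGL ((sr q)⁻¹ * w * sr q) =
        monoGL t (Equiv.swap q.1.1 q.1.2) * SpecialLinearGroup.toGL w *
          (monoGL t (Equiv.swap q.1.1 q.1.2))⁻¹ := by
      rw [← hg, map_mul, map_mul, map_inv, inv_inv]
    refine ⟨?_, ?_⟩
    · show SpecialLinearGroup.toGL ((sr q)⁻¹ * w * sr q) ∈ unitri n F
      rw [key]
      refine conj_mem_unitri _ _ hw.1.2 fun i j hij h => swap_lt ?_ ?_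
      · exact lt_of_le_of_ne (not_lt.1 fun hji => h (hw.1.1 hji)) hij
      · rintro ⟨rfl, rfl⟩
        exact h hw.2
    · have e := monoGL_conj_apply t (Equiv.swap q.1.1 q.1.2) (SpecialLinearGroup.toGL w)
        q.1.2 q.1.1
      rw [← key, Equiv.swap_apply_right, Equiv.swap_apply_left,
        show ((SpecialLinearGroup.toGL w : GL (Fin n) F) : Matrix (Fin n) (Fin n) F) q.1.2 q.1.1 = 0
          from hw.1.1 (simple_lt q), mul_zero, zero_mul] at e
      exact e
  · intro q u hu
    refine ⟨u * (xr q ((u : Matrix (Fin n) (Fin n) F) q.1.1 q.1.2))⁻¹,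
      ⟨mul_mem hu (inv_mem (xr_mem q _)), ?_⟩, _, (inv_mul_cancel_right _ _).symm⟩
    set t := (u : Matrix (Fin n) (Fin n) F) q.1.1 q.1.2 with ht
    have h1 := adjacent_mul (Subgroup.mem_comap.1 (mul_mem hu (inv_mem (xr_mem q t))))
      (Subgroup.mem_comap.1 (xr_mem q t)) q
    rw [← map_mul, inv_mul_cancel_right] at h1
    simp only [SpecialLinearGroup.coe_GL_coe_matrix] at h1
    rw [xr_apply, ← ht] at h1
    exact add_eq_right.1 h1.symm
  · intro q t
    refine xr_conj_mem (t := t0 * fun i =>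
        Function.update (Function.update (1 : Fin n → Fˣ) q.1.1 (-1)) q.1.2 1 (Fin.revPerm.symm i))
      (π := Fin.revPerm * Equiv.swap q.1.1 q.1.2) q t ?_ ?_
    · rw [map_mul, hg0, sr_inv_coe, monoGL_mul]
    · simp [Equiv.Perm.mul_apply, Fin.rev_lt_rev, simple_lt q]
  · intro q t ht
    exact ⟨_, (hr_coe q (Units.mk0 t ht)).symm⟩
  · intro q
    rw [hr, show d2 (1 : F) = 1 from sl_ext ?_, map_one]
    rw [d2_coe one_ne_zero, inv_one, ← Matrix.one_fin_two]
    rfl
  · intro g hg
    obtain ⟨t, ht⟩ := hg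
    have hgen : ∀ k : ℕ, k ≤ n → ∀ (t : Fin n → Fˣ) (g : SpecialLinearGroup (Fin n) F),
        diagGL t = SpecialLinearGroup.toGL g → (∀ i : Fin n, k ≤ i → t i = 1) →
        g ∈ Subgroup.closure {g | ∃ i s, s ≠ 0 ∧ g = hr (n := n) (F := F) i s} := by
      intro k
      induction k with
      | zero =>
        intro _ t g hg h
        have : t = 1 := funext fun i => h i (Nat.zero_le _)
        rw [this, map_one] at hg
        rw [hinj (hg.symm.trans (map_one _).symm)]
        exact one_mem _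
      | succ k ih =>
        intro hk t g hg h
        rcases Nat.eq_zero_or_pos k with rfl | hk0
        · refine ih (Nat.zero_le _) t g hg fun i _ => ?_
          rcases Nat.eq_zero_or_pos (i : ℕ) with hi | hi
          · have hdet := congrArg (fun g : GL (Fin n) F => (g : Matrix (Fin n) (Fin n) F).det) hg
            simp only [diagGL_val, det_diagonal] at hdet
            rw [show ((SpecialLinearGroup.toGL g : GL (Fin n) F) : Matrix (Fin n) (Fin n) F).det = 1
              from g.2] at hdet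
            rw [Finset.prod_eq_single i (fun j _ hj => by
              rw [h j (by have := Fin.val_ne_of_ne hj; omega), Units.val_one]) (by simp)] at hdet
            exact Units.ext hdet
          · exact h i (by omega)
        · let q : Simple n := ⟨(⟨k - 1, by omega⟩, ⟨k, by omega⟩), by show k - 1 + 1 = k; omega⟩
          set c := t ⟨k, by omega⟩ with hc
          have hd : diagGL (t * Function.update (Function.update (1 : Fin n → Fˣ) q.1.1 c) q.1.2 c⁻¹) =
              SpecialLinearGroup.toGL (g * hr q (c : F)) := by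
            rw [map_mul, map_mul, hr_coe, hg]
          have := ih (by omega) _ _ hd fun i hi => by
            rw [Pi.mul_apply]
            by_cases hik : i = q.1.2
            · rw [hik, Function.update_self]
              exact mul_inv_cancel c
            · have hval : (i : ℕ) ≠ k := fun e => hik (Fin.ext e)
              rw [Function.update_of_ne hik, Function.update_of_ne
                (fun e => by rw [e] at hi; simp [q] at hi; omega), Pi.one_apply, mul_one,
                h i (by omega)]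
          exact (Subgroup.mul_mem_cancel_right _ (Subgroup.subset_closure (show hr q (c : F) ∈
            {g | ∃ i s, s ≠ 0 ∧ g = hr (n := n) (F := F) i s} from
              ⟨q, c, c.ne_zero, rfl⟩))).1 this
    exact hgen n le_rfl t g ht fun i hi => absurd i.2 (by omega)
  · intro q t ht
    rw [sr, hr, hr, ← map_mul, ← map_mul]
    congr 1
    refine sl_ext ?_
    show (w2 (F := F) : Matrix (Fin 2) (Fin 2) F) * (d2 t : Matrix (Fin 2) (Fin 2) F) =
      (d2 t⁻¹ : Matrix (Fin 2) (Fin 2) F) * (w2 (F := F) : Matrix (Fin 2) (Fin 2) F)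
    rw [d2_coe ht, d2_coe (inv_ne_zero ht)]
    simp [w2, Matrix.mul_fin_two]
  · intro q
    rw [sr, hr, ← map_mul]
    congr 1
    refine sl_ext ?_
    show (w2 (F := F) : Matrix (Fin 2) (Fin 2) F) * (w2 (F := F) : Matrix (Fin 2) (Fin 2) F) =
      (d2 (-1 : F) : Matrix (Fin 2) (Fin 2) F)
    rw [d2_coe (neg_ne_zero.2 one_ne_zero)]
    simp [w2, Matrix.mul_fin_two]
  · intro q c hc
    rw [sr, xr, xr, hr, ← map_mul, ← map_mul, ← map_mul, ← map_mul, ← map_mul]
    congr 1
    refine sl_ext ?_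
    show (w2 (F := F) : Matrix (Fin 2) (Fin 2) F) * (u2 c : Matrix (Fin 2) (Fin 2) F) *
        (w2 (F := F) : Matrix (Fin 2) (Fin 2) F) =
      (u2 (-c⁻¹) : Matrix (Fin 2) (Fin 2) F) * (d2 (-c⁻¹) : Matrix (Fin 2) (Fin 2) F) *
        (w2 (F := F) : Matrix (Fin 2) (Fin 2) F) * (u2 (-c⁻¹) : Matrix (Fin 2) (Fin 2) F)
    rw [d2_coe (neg_ne_zero.2 (inv_ne_zero hc))]
    simp [w2, u2, Matrix.mul_fin_two, hc]

/-- The unitriangular subgroup is a `p`-group. -/
theorem isPGroup_upperU (p : ℕ) [Fact p.Prime] [CharP F p] [NeZero n] :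
    IsPGroup p (upperU F n) := by
  rintro ⟨g, hg⟩
  refine ⟨n, Subtype.ext (Subtype.ext ?_)⟩
  refine ((Units.ext_iff.1 (map_pow SpecialLinearGroup.toGL g (p ^ n))).trans
    (Units.val_pow_eq_pow_val _ _)).trans ?_
  have htri : (g : Matrix (Fin n) (Fin n) F).IsUpperTriangular := hg.1
  have hdiag : ∀ i, (g : Matrix (Fin n) (Fin n) F) i i = 1 := hg.2
  have hchar : (g : Matrix (Fin n) (Fin n) F).charpoly =
      (Polynomial.X - Polynomial.C 1) ^ n := by
    rw [Matrix.charpoly_of_isUpperTriangular _ htri]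
    simp [hdiag]
  have h0 : ((g : Matrix (Fin n) (Fin n) F) - 1) ^ n = 0 := by
    have := Matrix.aeval_self_charpoly (g : Matrix (Fin n) (Fin n) F)
    rw [hchar] at this
    simpa using this
  have h1 : ((g : Matrix (Fin n) (Fin n) F) - 1) ^ p ^ n = 0 :=
    pow_eq_zero_of_le (Nat.lt_pow_self (Fact.out : p.Prime).one_lt).le h0
  rwa [sub_pow_char_pow_of_commute _ _ (Commute.one_right _), one_pow, sub_eq_zero] at h1

end CfsgLib.DefectZero.SpecialLinear
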